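import Mathlib
import Cfsg.Agent.H902.Cross

/-!
# S4907, task DM09 (N1), groups of Lie type: twice the square of a prime part is at most the order (helper140)
-/

set_option autoImplicit false

namespace Cfsg.Agent.H140.DM

open Finset
open Cfsg.Agent.H902.Art

/-! ### own characteristic: `2 d q^N ≤ num` -/

/-- Weierstrass -/
theorem prodC_ge {q : ℕ} (hq : 2 ≤ q) (k : ℕ) :
    (2 * 4 ^ k + 1) * q ^ (k * (k + 1)) ≤ 3 * 4 ^ k * ∏ i ∈ range k, (q ^ (2 * (i + 1)) - 1) := by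
  induction k with
  | zero => simp
  | succ k ih =>
    rw [Finset.prod_range_succ]
    have hQ : 4 ^ (k + 1) ≤ q ^ (2 * (k + 1)) := by
      rw [pow_mul]
      exact Nat.pow_le_pow_left (by nlinarith) _
    have hx : 1 ≤ 4 ^ k := Nat.one_le_pow _ _ (by norm_num)
    have e1 : (k + 1) * (k + 1 + 1) = k * (k + 1) + 2 * (k + 1) := by ring
    have e2 : 4 ^ (k + 1) = 4 * 4 ^ k := by rw [pow_succ, mul_comm]
    rw [e2] at hQ
    rw [e1, e2, pow_add q]
    set Q := q ^ (2 * (k + 1)) with hQdef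
    set Z := q ^ (k * (k + 1)) with hZ
    set x := 4 ^ k with hx'
    obtain ⟨t, ht⟩ := Nat.exists_eq_add_of_le' (show 1 ≤ Q by omega)
    rw [ht, Nat.add_sub_cancel]
    rw [ht] at hQ
    have h1 : (2 * (4 * x) + 1) * (t + 1) ≤ 4 * (2 * x + 1) * t := by nlinarith
    calc (2 * (4 * x) + 1) * (Z * (t + 1)) = (2 * (4 * x) + 1) * (t + 1) * Z := by ring
      _ ≤ 4 * (2 * x + 1) * t * Z := Nat.mul_le_mul_right _ h1
      _ = 4 * t * ((2 * x + 1) * Z) := by ring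
      _ ≤ 4 * t * (3 * x * ∏ i ∈ range k, (q ^ (2 * (i + 1)) - 1)) := Nat.mul_le_mul_left _ ih
      _ = 3 * (4 * x) * ((∏ i ∈ range k, (q ^ (2 * (i + 1)) - 1)) * t) := by ring

theorem prodC_ge' {q : ℕ} (hq : 2 ≤ q) (k : ℕ) :
    2 * q ^ (k * (k + 1)) ≤ 3 * ∏ i ∈ range k, (q ^ (2 * (i + 1)) - 1) := by
  have h1 := prodC_ge hq k
  have hx : 0 < 4 ^ k := by positivity
  have h2 : 4 ^ k * (2 * q ^ (k * (k + 1))) ≤ 4 ^ k * (3 * ∏ i ∈ range k, (q ^ (2 * (i + 1)) - 1)) := by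
    calc 4 ^ k * (2 * q ^ (k * (k + 1))) = 2 * 4 ^ k * q ^ (k * (k + 1)) := by ring
      _ ≤ (2 * 4 ^ k + 1) * q ^ (k * (k + 1)) := Nat.mul_le_mul_right _ (by omega)
      _ ≤ _ := h1
      _ = _ := by ring
  exact Nat.le_of_mul_le_mul_left h2 hx

theorem sub_one_ge {q k : ℕ} (hq : 2 ≤ q) : (q - 1) * q ^ k ≤ q ^ (k + 1) - 1 := by
  have h1 : 1 ≤ q ^ k := Nat.one_le_pow _ _ (by omega)
  obtain ⟨t, rfl⟩ := Nat.exists_eq_add_of_le' (show 1 ≤ q by omega)
  rw [Nat.add_sub_cancel]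
  have h2 : (t + 1) ^ (k + 1) = t * (t + 1) ^ k + (t + 1) ^ k := by ring
  omega

/-- the linear product -/
theorem prodL_ge {q : ℕ} (hq : 2 ≤ q) (k : ℕ) :
    (q - 1) ^ k * q ^ (k * (k + 1) / 2) ≤ ∏ i ∈ range k, (q ^ (i + 2) - 1) := by
  induction k with
  | zero => simp
  | succ k ih =>
    rw [Finset.prod_range_succ]
    have e1 : (k + 1) * (k + 1 + 1) / 2 = k * (k + 1) / 2 + (k + 1) := by
      have : (k + 1) * (k + 1 + 1) = k * (k + 1) + (k + 1) * 2 := by ring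
      rw [this, Nat.add_mul_div_right _ _ (by norm_num)]
    rw [e1, pow_add q, pow_succ (q - 1)]
    calc (q - 1) ^ k * (q - 1) * (q ^ (k * (k + 1) / 2) * q ^ (k + 1)) =
        ((q - 1) ^ k * q ^ (k * (k + 1) / 2)) * ((q - 1) * q ^ (k + 1)) := by ring
      _ ≤ _ := Nat.mul_le_mul ih (sub_one_ge hq)

/-- the linear product, `q = 2` -/
theorem prodL_two (k : ℕ) :
    2 * 2 ^ ((k + 2) * (k + 2 + 1) / 2) ≤ ∏ i ∈ range (k + 2), (2 ^ (i + 2) - 1) := by
  induction k with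
  | zero => decide
  | succ k ih =>
    rw [show k + 1 + 2 = k + 2 + 1 by ring, Finset.prod_range_succ]
    have e1 : (k + 2 + 1) * (k + 2 + 1 + 1) / 2 = (k + 2) * (k + 2 + 1) / 2 + (k + 2 + 1) := by
      have : (k + 2 + 1) * (k + 2 + 1 + 1) = (k + 2) * (k + 2 + 1) + (k + 2 + 1) * 2 := by ring
      rw [this, Nat.add_mul_div_right _ _ (by norm_num)]
    rw [e1, pow_add, ← mul_assoc]
    refine Nat.mul_le_mul ih ?_
    have := sub_one_ge (q := 2) (k := k + 2 + 1) le_rfl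
    simpa using this

/-- the unitary product -/
theorem prodU_ge {q : ℕ} (hq : 2 ≤ q) {c : ℕ} {k0 : ℕ} (h0 : c * q ^ (k0 * (k0 + 1) / 2) ≤
    ∏ i ∈ range k0, (if Even i then q ^ (i + 2) - 1 else q ^ (i + 2) + 1)) (k : ℕ) :
    c * q ^ ((k + k0) * (k + k0 + 1) / 2) ≤
      ∏ i ∈ range (k + k0), (if Even i then q ^ (i + 2) - 1 else q ^ (i + 2) + 1) := by
  induction k with
  | zero => simpa using h0
  | succ k ih =>
    rw [show k + 1 + k0 = k + k0 + 1 by ring, Finset.prod_range_succ]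
    have e1 : (k + k0 + 1) * (k + k0 + 1 + 1) / 2 = (k + k0) * (k + k0 + 1) / 2 + (k + k0 + 1) := by
      have : (k + k0 + 1) * (k + k0 + 1 + 1) = (k + k0) * (k + k0 + 1) + (k + k0 + 1) * 2 := by ring
      rw [this, Nat.add_mul_div_right _ _ (by norm_num)]
    rw [e1, pow_add, ← mul_assoc]
    refine Nat.mul_le_mul ih ?_
    have h1 := sub_one_ge (q := q) (k := k + k0 + 1) hq
    have h2 : q ^ (k + k0 + 1) ≤ (q - 1) * q ^ (k + k0 + 1) := Nat.le_mul_of_pos_left _ (by omega)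
    split_ifs
    · exact h2.trans h1
    · have h3 : q ^ (k + k0 + 1 + 1) - 1 ≤ q ^ (k + k0 + 2) + 1 := by
        have : k + k0 + 1 + 1 = k + k0 + 2 := by ring
        rw [this]; omega
      exact (h2.trans h1).trans h3

theorem dd_le {X : Sh} {q : ℕ} (hq : 2 ≤ q) : (∀ n, X = .L n → dd X q ≤ q - 1) ∧ (∀ n, X = .U n → dd X q ≤ q + 1) := by
  refine ⟨?_, ?_⟩
  · rintro n rfl
    exact Nat.le_of_dvd (by omega) (Nat.gcd_dvd_right _ _)
  · rintro n rfl
    exact Nat.le_of_dvd (by omega) (Nat.gcd_dvd_right _ _)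

theorem seven {q k : ℕ} (hq : 2 ≤ q) (hk : 3 ≤ k) : 7 * q ^ k ≤ 8 * (q ^ k - 1) := by
  have h1 : 8 ≤ q ^ k := by
    calc 8 = 2 ^ 3 := by norm_num
      _ ≤ q ^ 3 := Nat.pow_le_pow_left hq 3
      _ ≤ q ^ k := Nat.pow_le_pow_right (by omega) hk
  omega

theorem seven' {q k : ℕ} : 7 * q ^ k ≤ 8 * (q ^ k + 1) := by omega

theorem three {q : ℕ} (hq : 2 ≤ q) : 3 * q ^ 2 ≤ 4 * (q ^ 2 - 1) := by
  have h1 : 4 ≤ q ^ 2 := by nlinarith
  omega

theorem gap {a b c x y : ℕ} (h : c ≤ y) (hab : a ≤ b * c) : a * x ≤ b * (y * x) := by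
  calc a * x ≤ b * y * x := Nat.mul_le_mul_right _ (hab.trans (Nat.mul_le_mul_left _ h))
    _ = b * (y * x) := by ring

theorem num_ge {X : Sh} {p f M : ℕ} (h : Real X p f M) : 2 * dd X (p ^ f) * (p ^ f) ^ NN X ≤ num X (p ^ f) := by
  have hq := h.q_ge
  have hok := h.ok
  set q := p ^ f with hqdef
  have hq0 : 0 < q := by omega
  have hpow : ∀ k, 2 ^ k ≤ q ^ k := fun k => Nat.pow_le_pow_left hq k
  cases X with
  | L n =>
    have hn : 2 ≤ n := hok.1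
    have hdl := (dd_le (X := .L n) hq).1 n rfl
    have hN : NN (.L n) = (n - 1) * (n - 1 + 1) / 2 := by
      show n * (n - 1) / 2 = _
      rw [Nat.sub_add_cancel (by omega), mul_comm]
    rw [hN]
    show 2 * dd (.L n) q * q ^ ((n - 1) * (n - 1 + 1) / 2) ≤ ∏ i ∈ range (n - 1), (q ^ (i + 2) - 1)
    rcases Nat.lt_or_ge n 3 with hn3 | hn3
    · have hn2 : n = 2 := by omega
      subst hn2
      have hq4 : 4 ≤ q := hok.2 rfl
      have h1 : ∏ i ∈ range (2 - 1), (q ^ (i + 2) - 1) = q ^ 2 - 1 := by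
        show ∏ i ∈ range 1, (q ^ (i + 2) - 1) = _
        rw [Finset.prod_range_one]
      rw [h1]
      show 2 * dd (.L 2) q * q ^ 1 ≤ _
      rw [pow_one]
      have hd : dd (.L 2) q = Nat.gcd 2 (q - 1) := rfl
      rw [hd]
      rcases gcd2 (q - 1) with h2 | h2
      · rw [h2]
        have : 4 * q ≤ q ^ 2 := by nlinarith
        omega
      · rw [h2]
        have h3 : 2 ∣ q - 1 := Nat.gcd_eq_left_iff_dvd.1 h2
        have h4 : 5 ≤ q := by omega
        have : 5 * q ≤ q ^ 2 := by nlinarith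
        omega
    · rcases Nat.lt_or_ge q 3 with hq3 | hq3
      · have hq2 : q = 2 := by omega
        rw [hq2]
        have hd : dd (.L n) 2 = 1 := Nat.gcd_one_right n
        rw [hd]
        have := prodL_two (n - 3)
        have e : n - 3 + 2 = n - 1 := by omega
        rw [e] at this
        simpa using this
      · refine le_trans ?_ (prodL_ge hq (n - 1))
        refine Nat.mul_le_mul_right _ ?_
        calc 2 * dd (.L n) q ≤ (q - 1) * (q - 1) := Nat.mul_le_mul (by omega) hdl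
          _ = (q - 1) ^ 2 := by ring
          _ ≤ (q - 1) ^ (n - 1) := Nat.pow_le_pow_right (by omega) (by omega)
  | U n =>
    have hn : 3 ≤ n := hok.1
    have hdl := (dd_le (X := .U n) hq).2 n rfl
    have hN : NN (.U n) = (n - 1) * (n - 1 + 1) / 2 := by
      show n * (n - 1) / 2 = _
      rw [Nat.sub_add_cancel (by omega), mul_comm]
    rw [hN]
    show 2 * dd (.U n) q * q ^ ((n - 1) * (n - 1 + 1) / 2) ≤
      ∏ i ∈ range (n - 1), (if Even i then q ^ (i + 2) - 1 else q ^ (i + 2) + 1)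
    rcases Nat.lt_or_ge q 3 with hq3 | hq3
    · have hq2 : q = 2 := by omega
      have hn4 : 4 ≤ n := by
        by_contra hcon
        have := hok.2 (by omega)
        omega
      have h0 := prodU_ge (q := 2) le_rfl (c := 6) (k0 := 3) (by decide) (n - 4)
      have e : n - 4 + 3 = n - 1 := by omega
      rw [e] at h0
      rw [hq2] at hdl ⊢
      exact (Nat.mul_le_mul_right _ (by omega)).trans h0
    · have h1 : (q ^ 2 - 1) * q ^ (2 * (2 + 1) / 2) ≤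
          ∏ i ∈ range 2, (if Even i then q ^ (i + 2) - 1 else q ^ (i + 2) + 1) := by
        rw [Finset.prod_range_succ, Finset.prod_range_one]
        have e0 : Even 0 := by decide
        have e1 : ¬ Even 1 := by decide
        rw [if_pos e0, if_neg e1]
        show (q ^ 2 - 1) * q ^ 3 ≤ (q ^ 2 - 1) * (q ^ 3 + 1)
        exact Nat.mul_le_mul_left _ (by omega)
      have h0 := prodU_ge hq h1 (n - 3)
      have e : n - 3 + 2 = n - 1 := by omega
      rw [e] at h0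
      refine le_trans (Nat.mul_le_mul_right _ ?_) h0
      rw [P_sq_mul hq]
      exact Nat.mul_le_mul (by omega) hdl
  | C m =>
    have hm : 2 ≤ m := hok.1
    show 2 * dd (.C m) q * q ^ (m ^ 2) ≤ ∏ i ∈ range m, (q ^ (2 * (i + 1)) - 1)
    have h1 := prodC_ge' hq m
    have h2 : 3 * dd (.C m) q ≤ q ^ m := by
      have hd : dd (.C m) q ≤ 2 := Nat.le_of_dvd (by norm_num) (Nat.gcd_dvd_left _ _)
      rcases Nat.lt_or_ge q 3 with hq3 | hq3
      · have hq2 : q = 2 := by omega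
        have hm3 : 3 ≤ m := by
          by_contra hcon
          have := hok.2 (by omega)
          omega
        have h3 : dd (.C m) q = 1 := by rw [hq2]; rfl
        rw [h3]
        calc 3 * 1 ≤ 2 ^ 3 := by norm_num
          _ ≤ q ^ 3 := hpow 3
          _ ≤ q ^ m := Nat.pow_le_pow_right hq0 hm3
      · calc 3 * dd (.C m) q ≤ 3 ^ 2 := by omega
          _ ≤ q ^ 2 := Nat.pow_le_pow_left hq3 2
          _ ≤ q ^ m := Nat.pow_le_pow_right hq0 hm
    have h3 : 3 * (2 * dd (.C m) q * q ^ (m ^ 2)) ≤ 3 * ∏ i ∈ range m, (q ^ (2 * (i + 1)) - 1) := by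
      calc 3 * (2 * dd (.C m) q * q ^ (m ^ 2)) = 2 * (q ^ (m ^ 2) * (3 * dd (.C m) q)) := by ring
        _ ≤ 2 * (q ^ (m ^ 2) * q ^ m) := Nat.mul_le_mul_left _ (Nat.mul_le_mul_left _ h2)
        _ = 2 * q ^ (m * (m + 1)) := by rw [← pow_add]; congr 2; ring
        _ ≤ _ := h1
    exact Nat.le_of_mul_le_mul_left h3 (by norm_num)
  | D m =>
    have hm : 4 ≤ m := hok
    show 2 * dd (.D m) q * q ^ (m * (m - 1)) ≤ (q ^ m - 1) * ∏ i ∈ range (m - 1), (q ^ (2 * (i + 1)) - 1)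
    have h1 := prodC_ge' hq (m - 1)
    have e : (m - 1) * (m - 1 + 1) = m * (m - 1) := by rw [Nat.sub_add_cancel (by omega), mul_comm]
    rw [e] at h1
    have h2 : 3 * dd (.D m) q ≤ q ^ m - 1 := by
      have hd : dd (.D m) q ≤ 4 := Nat.le_of_dvd (by norm_num) (Nat.gcd_dvd_left _ _)
      have h3 : 2 ^ 4 ≤ q ^ m := (hpow 4).trans (Nat.pow_le_pow_right hq0 hm)
      omega
    have h3 : 3 * (2 * dd (.D m) q * q ^ (m * (m - 1))) ≤
        3 * ((q ^ m - 1) * ∏ i ∈ range (m - 1), (q ^ (2 * (i + 1)) - 1)) := by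
      calc 3 * (2 * dd (.D m) q * q ^ (m * (m - 1))) = (3 * dd (.D m) q) * (2 * q ^ (m * (m - 1))) := by ring
        _ ≤ (q ^ m - 1) * (3 * ∏ i ∈ range (m - 1), (q ^ (2 * (i + 1)) - 1)) := Nat.mul_le_mul h2 h1
        _ = _ := by ring
    exact Nat.le_of_mul_le_mul_left h3 (by norm_num)
  | DD m =>
    have hm : 4 ≤ m := hok
    show 2 * dd (.DD m) q * q ^ (m * (m - 1)) ≤ (q ^ m + 1) * ∏ i ∈ range (m - 1), (q ^ (2 * (i + 1)) - 1)
    have h1 := prodC_ge' hq (m - 1)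
    have e : (m - 1) * (m - 1 + 1) = m * (m - 1) := by rw [Nat.sub_add_cancel (by omega), mul_comm]
    rw [e] at h1
    have h2 : 3 * dd (.DD m) q ≤ q ^ m + 1 := by
      have hd : dd (.DD m) q ≤ 4 := Nat.le_of_dvd (by norm_num) (Nat.gcd_dvd_left _ _)
      have h3 : 2 ^ 4 ≤ q ^ m := (hpow 4).trans (Nat.pow_le_pow_right hq0 hm)
      omega
    have h3 : 3 * (2 * dd (.DD m) q * q ^ (m * (m - 1))) ≤
        3 * ((q ^ m + 1) * ∏ i ∈ range (m - 1), (q ^ (2 * (i + 1)) - 1)) := by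
      calc 3 * (2 * dd (.DD m) q * q ^ (m * (m - 1))) = (3 * dd (.DD m) q) * (2 * q ^ (m * (m - 1))) := by ring
        _ ≤ (q ^ m + 1) * (3 * ∏ i ∈ range (m - 1), (q ^ (2 * (i + 1)) - 1)) := Nat.mul_le_mul h2 h1
        _ = _ := by ring
    exact Nat.le_of_mul_le_mul_left h3 (by norm_num)
  | G2 =>
    show 2 * 1 * q ^ 6 ≤ (q ^ 2 - 1) * (q ^ 6 - 1)
    have hq3 : 3 ≤ q := hok
    have h1 : 8 ≤ q ^ 2 - 1 := by
      have : 3 * 3 ≤ q * q := Nat.mul_le_mul hq3 hq3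
      have h2 : q ^ 2 = q * q := by ring
      omega
    have h2 := seven (k := 6) hq (by norm_num)
    calc 2 * 1 * q ^ 6 ≤ 8 * (q ^ 6 - 1) := by omega
      _ ≤ _ := Nat.mul_le_mul_right _ h1
  | F4 =>
    show 2 * 1 * q ^ 24 ≤ (q ^ 2 - 1) * (q ^ 6 - 1) * (q ^ 8 - 1) * (q ^ 12 - 1)
    have h1 : (3 * q ^ 2) * (7 * q ^ 6) * (7 * q ^ 8) * (7 * q ^ 12) ≤
        (4 * (q ^ 2 - 1)) * (8 * (q ^ 6 - 1)) * (8 * (q ^ 8 - 1)) * (8 * (q ^ 12 - 1)) :=
      Nat.mul_le_mul (Nat.mul_le_mul (Nat.mul_le_mul (three hq) (seven hq (by norm_num)))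
        (seven hq (by norm_num))) (seven hq (by norm_num))
    have h2 := hpow 4
    have h3 : 2048 * (2 * 1 * q ^ 24) ≤ 2048 * ((q ^ 2 - 1) * (q ^ 6 - 1) * (q ^ 8 - 1) * (q ^ 12 - 1)) := by
      calc 2048 * (2 * 1 * q ^ 24) = 4096 * q ^ 24 := by ring
        _ ≤ 1029 * (q ^ 4 * q ^ 24) := gap h2 (by norm_num)
        _ = (3 * q ^ 2) * (7 * q ^ 6) * (7 * q ^ 8) * (7 * q ^ 12) := by ring
        _ ≤ _ := h1
        _ = _ := by ring
    exact Nat.le_of_mul_le_mul_left h3 (by norm_num)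
  | E6 =>
    have hd : dd .E6 q ≤ 3 := Nat.le_of_dvd (by norm_num) (Nat.gcd_dvd_left _ _)
    show 2 * dd .E6 q * q ^ 36 ≤
      (q ^ 2 - 1) * (q ^ 5 - 1) * (q ^ 6 - 1) * (q ^ 8 - 1) * (q ^ 9 - 1) * (q ^ 12 - 1)
    have h1 : (3 * q ^ 2) * (7 * q ^ 5) * (7 * q ^ 6) * (7 * q ^ 8) * (7 * q ^ 9) * (7 * q ^ 12) ≤
        (4 * (q ^ 2 - 1)) * (8 * (q ^ 5 - 1)) * (8 * (q ^ 6 - 1)) * (8 * (q ^ 8 - 1)) * (8 * (q ^ 9 - 1)) *
          (8 * (q ^ 12 - 1)) :=
      Nat.mul_le_mul (Nat.mul_le_mul (Nat.mul_le_mul (Nat.mul_le_mul (Nat.mul_le_mul (three hq)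
        (seven hq (by norm_num))) (seven hq (by norm_num))) (seven hq (by norm_num))) (seven hq (by norm_num)))
        (seven hq (by norm_num))
    have h2 := hpow 6
    have h3 : 131072 * (2 * dd .E6 q * q ^ 36) ≤ 131072 *
        ((q ^ 2 - 1) * (q ^ 5 - 1) * (q ^ 6 - 1) * (q ^ 8 - 1) * (q ^ 9 - 1) * (q ^ 12 - 1)) := by
      calc 131072 * (2 * dd .E6 q * q ^ 36) ≤ 131072 * (2 * 3 * q ^ 36) :=
            Nat.mul_le_mul_left _ (Nat.mul_le_mul_right _ (by omega))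
        _ = 786432 * q ^ 36 := by ring
        _ ≤ 50421 * (q ^ 6 * q ^ 36) := gap h2 (by norm_num)
        _ = (3 * q ^ 2) * (7 * q ^ 5) * (7 * q ^ 6) * (7 * q ^ 8) * (7 * q ^ 9) * (7 * q ^ 12) := by ring
        _ ≤ _ := h1
        _ = _ := by ring
    exact Nat.le_of_mul_le_mul_left h3 (by norm_num)
  | E7 =>
    have hd : dd .E7 q ≤ 2 := Nat.le_of_dvd (by norm_num) (Nat.gcd_dvd_left _ _)
    show 2 * dd .E7 q * q ^ 63 ≤
      (q ^ 2 - 1) * (q ^ 6 - 1) * (q ^ 8 - 1) * (q ^ 10 - 1) * (q ^ 12 - 1) * (q ^ 14 - 1) * (q ^ 18 - 1)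
    have h1 : (3 * q ^ 2) * (7 * q ^ 6) * (7 * q ^ 8) * (7 * q ^ 10) * (7 * q ^ 12) * (7 * q ^ 14) *
        (7 * q ^ 18) ≤
        (4 * (q ^ 2 - 1)) * (8 * (q ^ 6 - 1)) * (8 * (q ^ 8 - 1)) * (8 * (q ^ 10 - 1)) * (8 * (q ^ 12 - 1)) *
          (8 * (q ^ 14 - 1)) * (8 * (q ^ 18 - 1)) :=
      Nat.mul_le_mul (Nat.mul_le_mul (Nat.mul_le_mul (Nat.mul_le_mul (Nat.mul_le_mul (Nat.mul_le_mul (three hq)
        (seven hq (by norm_num))) (seven hq (by norm_num))) (seven hq (by norm_num))) (seven hq (by norm_num)))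
        (seven hq (by norm_num))) (seven hq (by norm_num))
    have h2 := hpow 7
    have h3 : 1048576 * (2 * dd .E7 q * q ^ 63) ≤ 1048576 *
        ((q ^ 2 - 1) * (q ^ 6 - 1) * (q ^ 8 - 1) * (q ^ 10 - 1) * (q ^ 12 - 1) * (q ^ 14 - 1) * (q ^ 18 - 1)) := by
      calc 1048576 * (2 * dd .E7 q * q ^ 63) ≤ 1048576 * (2 * 2 * q ^ 63) :=
            Nat.mul_le_mul_left _ (Nat.mul_le_mul_right _ (by omega))
        _ = 4194304 * q ^ 63 := by ring
        _ ≤ 352947 * (q ^ 7 * q ^ 63) := gap h2 (by norm_num)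
        _ = (3 * q ^ 2) * (7 * q ^ 6) * (7 * q ^ 8) * (7 * q ^ 10) * (7 * q ^ 12) * (7 * q ^ 14) *
              (7 * q ^ 18) := by ring
        _ ≤ _ := h1
        _ = _ := by ring
    exact Nat.le_of_mul_le_mul_left h3 (by norm_num)
  | E8 =>
    show 2 * 1 * q ^ 120 ≤
      (q ^ 2 - 1) * (q ^ 8 - 1) * (q ^ 12 - 1) * (q ^ 14 - 1) * (q ^ 18 - 1) * (q ^ 20 - 1) * (q ^ 24 - 1) *
      (q ^ 30 - 1)
    have h1 : (3 * q ^ 2) * (7 * q ^ 8) * (7 * q ^ 12) * (7 * q ^ 14) * (7 * q ^ 18) * (7 * q ^ 20) *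
        (7 * q ^ 24) * (7 * q ^ 30) ≤
        (4 * (q ^ 2 - 1)) * (8 * (q ^ 8 - 1)) * (8 * (q ^ 12 - 1)) * (8 * (q ^ 14 - 1)) * (8 * (q ^ 18 - 1)) *
          (8 * (q ^ 20 - 1)) * (8 * (q ^ 24 - 1)) * (8 * (q ^ 30 - 1)) :=
      Nat.mul_le_mul (Nat.mul_le_mul (Nat.mul_le_mul (Nat.mul_le_mul (Nat.mul_le_mul (Nat.mul_le_mul
        (Nat.mul_le_mul (three hq) (seven hq (by norm_num))) (seven hq (by norm_num))) (seven hq (by norm_num)))
        (seven hq (by norm_num))) (seven hq (by norm_num))) (seven hq (by norm_num))) (seven hq (by norm_num))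
    have h2 := hpow 8
    have h3 : 8388608 * (2 * 1 * q ^ 120) ≤ 8388608 *
        ((q ^ 2 - 1) * (q ^ 8 - 1) * (q ^ 12 - 1) * (q ^ 14 - 1) * (q ^ 18 - 1) * (q ^ 20 - 1) * (q ^ 24 - 1) *
          (q ^ 30 - 1)) := by
      calc 8388608 * (2 * 1 * q ^ 120) = 16777216 * q ^ 120 := by ring
        _ ≤ 2470629 * (q ^ 8 * q ^ 120) := gap h2 (by norm_num)
        _ = (3 * q ^ 2) * (7 * q ^ 8) * (7 * q ^ 12) * (7 * q ^ 14) * (7 * q ^ 18) * (7 * q ^ 20) *
              (7 * q ^ 24) * (7 * q ^ 30) := by ring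
        _ ≤ _ := h1
        _ = _ := by ring
    exact Nat.le_of_mul_le_mul_left h3 (by norm_num)
  | TE6 =>
    have hd : dd .TE6 q ≤ 3 := Nat.le_of_dvd (by norm_num) (Nat.gcd_dvd_left _ _)
    show 2 * dd .TE6 q * q ^ 36 ≤
      (q ^ 2 - 1) * (q ^ 5 + 1) * (q ^ 6 - 1) * (q ^ 8 - 1) * (q ^ 9 + 1) * (q ^ 12 - 1)
    have h1 : (3 * q ^ 2) * (7 * q ^ 5) * (7 * q ^ 6) * (7 * q ^ 8) * (7 * q ^ 9) * (7 * q ^ 12) ≤
        (4 * (q ^ 2 - 1)) * (8 * (q ^ 5 + 1)) * (8 * (q ^ 6 - 1)) * (8 * (q ^ 8 - 1)) * (8 * (q ^ 9 + 1)) *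
          (8 * (q ^ 12 - 1)) :=
      Nat.mul_le_mul (Nat.mul_le_mul (Nat.mul_le_mul (Nat.mul_le_mul (Nat.mul_le_mul (three hq)
        seven') (seven hq (by norm_num))) (seven hq (by norm_num))) seven')
        (seven hq (by norm_num))
    have h2 := hpow 6
    have h3 : 131072 * (2 * dd .TE6 q * q ^ 36) ≤ 131072 *
        ((q ^ 2 - 1) * (q ^ 5 + 1) * (q ^ 6 - 1) * (q ^ 8 - 1) * (q ^ 9 + 1) * (q ^ 12 - 1)) := by
      calc 131072 * (2 * dd .TE6 q * q ^ 36) ≤ 131072 * (2 * 3 * q ^ 36) :=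
            Nat.mul_le_mul_left _ (Nat.mul_le_mul_right _ (by omega))
        _ = 786432 * q ^ 36 := by ring
        _ ≤ 50421 * (q ^ 6 * q ^ 36) := gap h2 (by norm_num)
        _ = (3 * q ^ 2) * (7 * q ^ 5) * (7 * q ^ 6) * (7 * q ^ 8) * (7 * q ^ 9) * (7 * q ^ 12) := by ring
        _ ≤ _ := h1
        _ = _ := by ring
    exact Nat.le_of_mul_le_mul_left h3 (by norm_num)
  | TD4 =>
    show 2 * 1 * q ^ 12 ≤ (q ^ 2 - 1) * (q ^ 6 - 1) * (q ^ 8 + q ^ 4 + 1)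
    have h1 : (3 * q ^ 2) * (7 * q ^ 6) * q ^ 8 ≤ (4 * (q ^ 2 - 1)) * (8 * (q ^ 6 - 1)) * (q ^ 8 + q ^ 4 + 1) :=
      Nat.mul_le_mul (Nat.mul_le_mul (three hq) (seven hq (by norm_num))) (by omega)
    have h2 := hpow 4
    have h3 : 32 * (2 * 1 * q ^ 12) ≤ 32 * ((q ^ 2 - 1) * (q ^ 6 - 1) * (q ^ 8 + q ^ 4 + 1)) := by
      calc 32 * (2 * 1 * q ^ 12) = 64 * q ^ 12 := by ring
        _ ≤ 21 * (q ^ 4 * q ^ 12) := gap h2 (by norm_num)
        _ = (3 * q ^ 2) * (7 * q ^ 6) * q ^ 8 := by ring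
        _ ≤ _ := h1
        _ = _ := by ring
    exact Nat.le_of_mul_le_mul_left h3 (by norm_num)
  | Sz =>
    show 2 * 1 * q ^ 2 ≤ (q - 1) * (q ^ 2 + 1)
    obtain ⟨hp2, hodd, hf3⟩ := hok
    have hq8 : 3 ≤ q := by
      rw [hqdef, hp2]
      calc 3 ≤ 2 ^ 3 := by norm_num
        _ ≤ 2 ^ f := Nat.pow_le_pow_right (by norm_num) hf3
    exact Nat.mul_le_mul (by omega) (by omega)
  | Ree =>
    show 2 * 1 * q ^ 3 ≤ (q - 1) * (q ^ 3 + 1)
    obtain ⟨hp2, hodd, hf3⟩ := hok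
    have hq8 : 3 ≤ q := by
      rw [hqdef, hp2]
      calc 3 ≤ 3 ^ 3 := by norm_num
        _ ≤ 3 ^ f := Nat.pow_le_pow_right (by norm_num) hf3
    exact Nat.mul_le_mul (by omega) (by omega)
  | TF4 =>
    show 2 * 1 * q ^ 12 ≤ (q - 1) * (q ^ 3 + 1) * (q ^ 4 - 1) * (q ^ 6 + 1)
    obtain ⟨hp2, hodd, hf3⟩ := hok
    have hq8 : 3 ≤ q := by
      rw [hqdef, hp2]
      calc 3 ≤ 2 ^ 3 := by norm_num
        _ ≤ 2 ^ f := Nat.pow_le_pow_right (by norm_num) hf3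
    have h1 : 2 * q ^ 3 * q ^ 3 * q ^ 6 ≤ (q - 1) * (q ^ 3 + 1) * (q ^ 4 - 1) * (q ^ 6 + 1) := by
      refine Nat.mul_le_mul (Nat.mul_le_mul (Nat.mul_le_mul (by omega) (by omega)) ?_) (by omega)
      have := sub_one_ge (q := q) (k := 3) hq
      refine le_trans ?_ this
      exact Nat.le_mul_of_pos_left _ (by omega)
    calc 2 * 1 * q ^ 12 = 2 * q ^ 3 * q ^ 3 * q ^ 6 := by ring
      _ ≤ _ := h1

/-- own characteristic -/
theorem own_le {X : Sh} {p f M : ℕ} (h : Real X p f M) : 2 * ((p ^ f) ^ NN X) ^ 2 ≤ M := by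
  have h1 := num_ge h
  have h2 : dd X (p ^ f) * (2 * ((p ^ f) ^ NN X) ^ 2) ≤ dd X (p ^ f) * M := by
    rw [h.eq]
    calc dd X (p ^ f) * (2 * ((p ^ f) ^ NN X) ^ 2) = (p ^ f) ^ NN X * (2 * dd X (p ^ f) * (p ^ f) ^ NN X) := by ring
      _ ≤ _ := Nat.mul_le_mul_left _ h1
  exact Nat.le_of_mul_le_mul_left h2 (Nat.pos_of_ne_zero h.dd_ne)

theorem two_mul_P {q M : ℕ} (hM : M ≠ 0) (h : 2 * M = q * ((q - 1) * (q + 1))) (hodd : Odd q) (hq : 3 ≤ q) :
    P 2 M ≤ q + 1 := by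
  have h4 : P 2 2 = 2 := by
    have := P_pow_self (r := 2) (k := 1) (a := 1) Nat.prime_two (by norm_num)
    simpa using this
  have h5 : P 2 (2 * M) = 2 * P 2 M := by rw [P_mul (by norm_num) hM, h4]
  have h6 : P 2 (2 * M) ≤ 2 * (q + 1) := by
    rw [h, P_mul (by omega) (Nat.mul_ne_zero (by omega) (by omega)), P_two_of_odd hodd, one_mul,
      ← P_sq_mul (by omega)]
    exact P_two_sq_sub_one_le hq hodd
  omega

/-- the square of a prime part, `L₂` and another prime -/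
theorem L2_le {p f M r : ℕ} (h : Real (.L 2) p f M) (hr : r.Prime) (hrp : r ≠ p) : 2 * (P r M) ^ 2 ≤ M := by
  obtain ⟨hQ4, hc⟩ := L2_eq h
  have hrq := h.not_dvd_q hr hrp
  have hM0 := h.M_ne
  set q := p ^ f with hqdef
  rcases hc with ⟨hp2, hM⟩ | ⟨hp2, hodd, hM⟩
  · -- `q` even
    have hr2 : r ≠ 2 := fun h => hrp (h.trans hp2.symm)
    have h1 : P r M ≤ q + 1 := by
      rw [hM, P_mul (by omega) (Nat.mul_ne_zero (by omega) (by omega)), P_eq_one hrq, one_mul,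
        ← P_sq_mul (by omega)]
      have := P_sq_sub_one_le (j := 1) hr hr2 (show 2 ≤ q by omega) le_rfl
      rwa [mul_one, pow_one] at this
    have h2 : 2 * (q + 1) ≤ q * (q - 1) := by
      obtain ⟨t, ht⟩ := Nat.exists_eq_add_of_le' hQ4
      rw [ht, show t + 4 - 1 = t + 3 by omega]
      nlinarith
    calc 2 * (P r M) ^ 2 ≤ 2 * (q + 1) ^ 2 := Nat.mul_le_mul_left _ (Nat.pow_le_pow_left h1 2)
      _ = (2 * (q + 1)) * (q + 1) := by ring
      _ ≤ (q * (q - 1)) * (q + 1) := Nat.mul_le_mul_right _ h2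
      _ = M := by rw [hM]; ring
  · obtain ⟨c, hc⟩ := id hodd
    have hc2 : 2 ≤ c := by omega
    by_cases hr2 : r = 2
    · subst hr2
      rcases Nat.lt_or_ge q 7 with hq7 | hq7
      · have hq5 : q = 5 := by omega
        rw [hq5] at hM
        have hM60 : M = 60 := by omega
        rw [hM60]
        have h2 : P 2 60 = 2 ^ 2 := by
          have : 60 = 2 ^ 2 * 15 := by norm_num
          rw [this, P_pow_self Nat.prime_two (by norm_num)]
        rw [h2]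
        norm_num
      · have h1 := two_mul_P hM0 hM hodd (by omega)
        have h2 : 4 * (q + 1) ≤ q * (q - 1) := by
          obtain ⟨t, ht⟩ := Nat.exists_eq_add_of_le' hq7
          rw [ht, show t + 7 - 1 = t + 6 by omega]
          nlinarith
        have h3 : 2 * (2 * (P 2 M) ^ 2) ≤ 2 * M := by
          calc 2 * (2 * (P 2 M) ^ 2) ≤ 2 * (2 * (q + 1) ^ 2) :=
                Nat.mul_le_mul_left _ (Nat.mul_le_mul_left _ (Nat.pow_le_pow_left h1 2))
            _ = (4 * (q + 1)) * (q + 1) := by ring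
            _ ≤ (q * (q - 1)) * (q + 1) := Nat.mul_le_mul_right _ h2
            _ = 2 * M := by rw [hM]; ring
        omega
    · have hM2 : M = (2 * c + 1) * (2 * c * (c + 1)) := by
        have h1 : q - 1 = 2 * c := by omega
        have h2 : q + 1 = 2 * (c + 1) := by omega
        rw [h1, h2, hc] at hM
        have h3 : 2 * M = 2 * ((2 * c + 1) * (2 * c * (c + 1))) := by rw [hM]; ring
        omega
      have hP2 : P r 2 = 1 := P_eq_one fun h => hr2 ((Nat.prime_dvd_prime_iff_eq hr Nat.prime_two).1 h)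
      have hqQ' : ¬ r ∣ 2 * c + 1 := by rw [← hc]; exact hrq
      have hP : P r M = P r c * P r (c + 1) := by
        rw [hM2, P_mul (by omega) (Nat.mul_ne_zero (by omega) (by omega)), P_eq_one hqQ', one_mul,
          P_mul (by omega) (by omega), P_mul (by norm_num) (by omega), hP2, one_mul]
      have h1 : P r M ≤ c + 1 := by
        rw [hP]
        by_cases h2 : r ∣ c
        · have h3 : ¬ r ∣ c + 1 := by
            intro h4
            have h5 := (Nat.dvd_add_right h2).1 h4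
            exact hr.one_lt.ne' (Nat.dvd_one.1 h5)
          rw [P_eq_one h3, mul_one]
          exact (P_le (by omega)).trans (by omega)
        · rw [P_eq_one h2, one_mul]
          exact P_le (by omega)
      calc 2 * (P r M) ^ 2 ≤ 2 * (c + 1) ^ 2 := Nat.mul_le_mul_left _ (Nat.pow_le_pow_left h1 2)
        _ ≤ (2 * c + 1) * (2 * c * (c + 1)) := by nlinarith
        _ = M := hM2.symm

/-- **N1 for the groups of Lie type** -/
theorem lie_le {X : Sh} {p f M r : ℕ} (h : Real X p f M) (hr : r.Prime) : 2 * (P r M) ^ 2 ≤ M := by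
  have hown := own_le h
  by_cases hrp : r = p
  · rw [hrp, h.P_self]
    exact hown
  by_cases hX : X = .L 2
  · subst hX
    exact L2_le h hr hrp
  by_cases h33 : X = .U 3 ∧ p ^ f = 3 ∧ r = 2
  · obtain ⟨rfl, hq, rfl⟩ := h33
    have h2 := val_eq h
    unfold Cfsg.Agent.H902.Art.val at h2
    dsimp only at h2
    rw [hq] at h2
    have h3 : (3 ^ NN (.U 3) * num (.U 3) 3 / dd (.U 3) 3) = 6048 := by decide +kernel
    rw [h3] at h2
    rw [← h2]
    have h6 : P 2 6048 = 2 ^ 5 := by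
      have : 6048 = 2 ^ 5 * 189 := by norm_num
      rw [this, P_pow_self Nat.prime_two (by norm_num)]
    rw [h6]
    norm_num
  by_cases h42 : X = .U 4 ∧ p ^ f = 2 ∧ r = 3
  · obtain ⟨rfl, hq, rfl⟩ := h42
    have h2 := val_eq h
    unfold Cfsg.Agent.H902.Art.val at h2
    dsimp only at h2
    rw [hq] at h2
    have h3 : (2 ^ NN (.U 4) * num (.U 4) 2 / dd (.U 4) 2) = 25920 := by decide +kernel
    rw [h3] at h2
    rw [← h2]
    have h6 : P 3 25920 = 3 ^ 4 := by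
      have : 25920 = 3 ^ 4 * 320 := by norm_num
      rw [this, P_pow_self Nat.prime_three (by norm_num)]
    rw [h6]
    norm_num
  have h1 := h.dom hX hr hrp h33 h42
  exact (Nat.mul_le_mul_left _ (Nat.pow_le_pow_left h1 2)).trans hown

end Cfsg.Agent.H140.DM
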